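import Groth.Agent.AssDimLoci.Normal
import Groth.Agent.GeomRedFlat5.Open
import Groth.Agent.H4RG.NormalFibres
import Groth.Prelude.Def_EGA4b

/-!
# Pointwise geometrically normal fibres of affine morphisms
-/

noncomputable section

set_option autoImplicit false
set_option linter.style.haveILetI false
set_option linter.unusedSectionVars false
set_option backward.isDefEq.respectTransparency.types false
set_option maxHeartbeats 1000000
set_option synthInstance.maxHeartbeats 400000

universe u

open CategoryTheory CategoryTheory.Limits AlgebraicGeometry IsLocalRing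
open scoped TensorProduct

namespace Groth.Agent.NormalAtLfp

theorem stalk_normal_of_gnormal {X Y : Scheme.{u}} (f : X ⟶ Y) [LocallyOfFinitePresentation f] {x : X}
    (h : AssDimLoci.GNormal f (f x) (f.asFiber x)) {K : Type u} [Field K]
    (φ : Y.residueField (f.base x) ⟶ CommRingCat.of K) (hfin : φ.hom.Finite)
    (g : Spec (CommRingCat.of K) ⟶ Y) (hφ : Spec.map φ ≫ Y.fromSpecResidueField (f.base x) = g)
    (z : ↥(pullback f g)) (hz : (pullback.fst f g).base z = x) :
    IsDomain ((pullback f g).presheaf.stalk z) ∧ IsIntegrallyClosed ((pullback f g).presheaf.stalk z) := by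
  subst hφ
  letI : Algebra (IsLocalRing.ResidueField (Y.presheaf.stalk (f.base x))) K := φ.hom.toAlgebra
  obtain ⟨e, he⟩ := GeomRedFlat5.exists_bcIso f (f.base x) φ rfl
  obtain ⟨v, rfl⟩ : ∃ v, e.hom.base v = z := e.hom.homeomorph.surjective z
  obtain ⟨h1, h2⟩ := h K hfin v ((f.fiberι (f.base x)).isEmbedding.injective (by
    rw [Scheme.Hom.fiberι_asFiber, ← Scheme.Hom.comp_apply, ← he, Scheme.Hom.comp_apply]
    exact hz))
  let E := (asIso (e.hom.stalkMap v)).commRingCatIsoToRingEquiv
  exact ⟨E.toMulEquiv.isDomain, IsIntegrallyClosed.of_equiv E.symm⟩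

variable {A B : Type u} [CommRing A] [CommRing B] [Algebra A B] [Algebra.FinitePresentation A B]

/-- the morphism of the algebra -/
abbrev specMap : Spec (CommRingCat.of B) ⟶ Spec (CommRingCat.of A) := Spec.map (CommRingCat.ofHom (algebraMap A B))

/-- the tensor products of the fibres with finite extensions are normal -/
theorem isGeomNormal_fiber {X Y : Scheme.{u}} (f : X ⟶ Y) [LocallyOfFinitePresentation f]
    (j : Spec (CommRingCat.of B) ⟶ X) [IsOpenImmersion j] (i : Spec (CommRingCat.of A) ⟶ Y) [IsOpenImmersion i]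
    (hji : j ≫ f = specMap (A := A) (B := B) ≫ i)
    (h : ∀ x : ↥(Spec (CommRingCat.of B)), AssDimLoci.GNormal f (f (j x)) (f.asFiber (j x)))
    (p : Ideal A) [p.IsPrime] :
    EGA4.IsGeomNormal p.ResidueField (p.Fiber B) := by
  intro K _ _ hK
  haveI := hK
  letI : Algebra A K := ((algebraMap p.ResidueField K).comp (algebraMap A p.ResidueField)).toAlgebra
  haveI : IsScalarTower A p.ResidueField K := IsScalarTower.of_algebraMap_eq fun _ => rfl
  refine FlatLoc6.isNormalRing_of_ringEquiv
    (Algebra.TensorProduct.cancelBaseChange A p.ResidueField K K B).toRingEquiv.symm fun Q _ => ?_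
  let q₁ := specMap (A := A) (B := B)
  let g₁ : Spec (CommRingCat.of K) ⟶ Spec (CommRingCat.of A) := Spec.map (CommRingCat.ofHom (algebraMap A K))
  let g : Spec (CommRingCat.of K) ⟶ Y := g₁ ≫ i
  let sq := GeomRedFlat5.isPullback_tensor A K B
  have sq₂ : IsPullback (pullback.fst q₁ g₁) (pullback.snd q₁ g₁) (q₁ ≫ i) (g₁ ≫ i) :=
    IsPullback.of_isLimit (pullbackIsPullbackOfCompMono q₁ g₁ i)
  let m : pullback (q₁ ≫ i) (g₁ ≫ i) ⟶ pullback f g :=
    pullback.map (q₁ ≫ i) (g₁ ≫ i) f g j (𝟙 _) (𝟙 _) (by rw [hji]; exact Category.comp_id _)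
      (by rw [Category.comp_id, Category.id_comp])
  haveI : IsOpenImmersion m := MorphismProperty.pullbackMap (P := @IsOpenImmersion) (i₁ := j) (i₂ := 𝟙 _)
    inferInstance inferInstance hji.symm (Category.id_comp _).symm
  let M : Spec (CommRingCat.of (K ⊗[A] B)) ⟶ pullback f g := sq.isoPullback.hom ≫ sq₂.isoPullback.hom ≫ m
  haveI : IsOpenImmersion M := inferInstance
  let q : PrimeSpectrum (K ⊗[A] B) := ⟨Q, inferInstance⟩
  let z : ↥(pullback f g) := M q
  have hzj : ∃ x₀, pullback.fst f g z = j x₀ := by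
    refine ⟨pullback.fst (q₁ ≫ i) (g₁ ≫ i) (sq₂.isoPullback.hom (sq.isoPullback.hom q)), ?_⟩
    show (M ≫ pullback.fst f g) q = (sq.isoPullback.hom ≫ sq₂.isoPullback.hom ≫ pullback.fst (q₁ ≫ i) (g₁ ≫ i) ≫ j) q
    simp only [M, m, Category.assoc, pullback.lift_fst]
  obtain ⟨x₀, hx₀⟩ := hzj
  have hgy : g.base (closedPoint K) = f.base (j x₀) := by
    have := GeomRedFlat5.base_closedPoint_eq f g z hx₀
    exact this
  obtain ⟨φ, hφ⟩ := GeomRedFlat5.exists_factor_field g hgy
  have hsub : Set.range (Y.fromSpecResidueField (f.base (j x₀))) ⊆ Set.range i := by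
    rintro _ ⟨t, rfl⟩
    rw [Scheme.fromSpecResidueField_apply]
    exact ⟨q₁ x₀, by rw [← Scheme.Hom.comp_apply, ← hji]; rfl⟩
  let l := IsOpenImmersion.lift i (Y.fromSpecResidueField (f.base (j x₀))) hsub
  let ρ : CommRingCat.of A ⟶ Y.residueField (f.base (j x₀)) := Spec.preimage l
  have hρ : ∀ a : A, φ.hom (ρ.hom a) = algebraMap A K a := fun a => by
    have : ρ ≫ φ = CommRingCat.ofHom (algebraMap A K) := Spec.map_injective (by
      rw [Spec.map_comp, Spec.map_preimage, ← cancel_mono i, Category.assoc, IsOpenImmersion.lift_fac]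
      exact hφ)
    exact RingHom.congr_fun (congrArg CommRingCat.Hom.hom this) a
  have hrange : ∀ c : p.ResidueField, algebraMap p.ResidueField K c ∈ φ.hom.range := by
    intro c
    obtain ⟨a, b, hb, rfl⟩ := IsFractionRing.div_surjective (A := A ⧸ p) c
    obtain ⟨a, rfl⟩ := Ideal.Quotient.mk_surjective a
    obtain ⟨b, rfl⟩ := Ideal.Quotient.mk_surjective b
    refine ⟨ρ.hom a / ρ.hom b, ?_⟩
    rw [map_div₀, hρ, hρ, map_div₀]
    rfl
  have hfin : φ.hom.Finite := by
    letI : Algebra (Y.residueField (f.base (j x₀))) K := φ.hom.toAlgebra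
    show Module.Finite _ _
    obtain ⟨s, hs⟩ := (Module.finite_def.1 hK)
    refine ⟨⟨s, eq_top_iff.2 fun y _ => ?_⟩⟩
    refine Submodule.span_induction (p := fun y _ => y ∈ Submodule.span _ (s : Set K))
      (fun y hy => Submodule.subset_span hy) (zero_mem _) (fun _ _ _ _ => add_mem) (fun c y _ hy => ?_)
      (hs.ge (Submodule.mem_top (x := y)))
    obtain ⟨r, hr⟩ := hrange c
    rw [Algebra.smul_def, ← hr]
    exact (Algebra.smul_def r y) ▸ Submodule.smul_mem _ r hy
  obtain ⟨h1, h2⟩ := stalk_normal_of_gnormal f (h x₀) φ hfin g hφ z hx₀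
  let E : (pullback f g).presheaf.stalk z ≃+* (Spec (CommRingCat.of (K ⊗[A] B))).presheaf.stalk q :=
    (asIso (M.stalkMap q)).commRingCatIsoToRingEquiv
  let E' : (Spec (CommRingCat.of (K ⊗[A] B))).presheaf.stalk q ≃+* Localization.AtPrime Q :=
    (StructureSheaf.stalkIso (K ⊗[A] B) q).toRingEquiv.symm
  exact ⟨(E.trans E').symm.toMulEquiv.isDomain, IsIntegrallyClosed.of_equiv (E.trans E')⟩

/-- geometric reducedness of the fibres at all points -/
theorem E_of_geomNormal (h : ∀ (p : Ideal A) [p.IsPrime], EGA4.IsGeomNormal p.ResidueField (p.Fiber B))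
    (q : PrimeSpectrum B) : GeomRedFlat5.E (specMap (A := A) (B := B)) q := by
  let p := q.asIdeal.comap (algebraMap A B)
  haveI := H4RG.isGeometricallyReduced_of_isGeomNormal (h p)
  let K := AlgebraicClosure p.ResidueField
  haveI : _root_.IsReduced (K ⊗[p.ResidueField] p.Fiber B) :=
    (Algebra.isGeometricallyReduced_field_iff p.ResidueField (p.Fiber B)).1 inferInstance
  haveI : _root_.IsReduced (K ⊗[A] B) :=
    isReduced_of_injective (Algebra.TensorProduct.cancelBaseChange A p.ResidueField K K B).symm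
      (Algebra.TensorProduct.cancelBaseChange A p.ResidueField K K B).symm.injective
  let f := specMap (A := A) (B := B)
  let g : Spec (CommRingCat.of K) ⟶ Spec (CommRingCat.of A) := Spec.map (CommRingCat.ofHom (algebraMap A K))
  have hg : g.base (closedPoint K) = f.base q := PrimeSpectrum.ext (by
    show Ideal.comap (algebraMap A K) (maximalIdeal K) = q.asIdeal.comap (algebraMap A B)
    rw [IsLocalRing.isField_iff_maximalIdeal_eq.1 (Field.toIsField K), IsScalarTower.algebraMap_eq A p.ResidueField K,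
      ← Ideal.comap_comap, ← RingHom.ker_eq_comap_bot, (RingHom.injective_iff_ker_eq_bot _).1
      (algebraMap p.ResidueField K).injective, ← RingHom.ker_eq_comap_bot, Ideal.ker_algebraMap_residueField])
  obtain ⟨z, hz, -⟩ := Scheme.Pullback.exists_preimage_pullback (f := f) (g := g) q (closedPoint K) hg.symm
  refine GeomRedFlat5.E_of_isReduced_field g z hz ?_
  let sq := GeomRedFlat5.isPullback_tensor A K B
  obtain ⟨w, rfl⟩ := sq.isoPullback.hom.homeomorph.surjective z
  rw [show (sq.isoPullback.hom.homeomorph w) = sq.isoPullback.hom.base w from rfl,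
    GeomRedFlat5.isReduced_stalk_iff_of_iso]
  haveI : IsReduced (Spec (CommRingCat.of (K ⊗[A] B))) := inferInstance
  infer_instance

end Groth.Agent.NormalAtLfp

end
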