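import Groth.Agent.NormalAtLfp.Fibre
import Groth.Agent.IntBC.Main
import Groth.Agent.IntBC.UnibranchField
import Groth.Agent.SrcDescent.FlatModelAlg
import Groth.Agent.FlatLoc6.FiberRing
import Groth.Agent.GeomRedFlat5.Reduced
import Groth.Agent.UnivOpen.AffineSpaceUnibranch
import Groth.Agent.UnibEtale.Chart

/-!
# Normal morphisms preserve geometrically unibranch points (EGA IV 11.3.x), without noetherian hypotheses
-/

noncomputable section

set_option autoImplicit false
set_option linter.style.haveILetI false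
set_option linter.unusedSectionVars false
set_option backward.isDefEq.respectTransparency.types false
set_option maxHeartbeats 4000000
set_option synthInstance.maxHeartbeats 400000

universe u

open CategoryTheory AlgebraicGeometry IsLocalRing
open scoped TensorProduct

namespace Groth.Agent.NormalAtLfp

/-- change of the base of a tensor product along a model -/
def modelEquiv {A₀ A B E : Type u} [CommRing A₀] [CommRing A] [CommRing B] [CommRing E] [Algebra A₀ A] [Algebra A B]
    [Algebra A₀ E] (e : B ≃ₐ[A] A ⊗[A₀] E) (D : Type u) [CommRing D] [Algebra A D] [Algebra A₀ D]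
    [IsScalarTower A₀ A D] : E ⊗[A₀] D ≃+* B ⊗[A] D :=
  (((Algebra.TensorProduct.comm A₀ E D).toRingEquiv.trans
    (Algebra.TensorProduct.cancelBaseChange A₀ A A D E).symm.toRingEquiv).trans
    (Algebra.TensorProduct.congr (AlgEquiv.refl : D ≃ₐ[A] D) e.symm).toRingEquiv).trans
    (Algebra.TensorProduct.comm A D B).toRingEquiv

/-- a flat algebra with a noetherian model with geometrically reduced fibres and with geometrically normal fibres
keeps normal rings normal -/
theorem isNormalRing_tensor {A₀ A B E : Type u} [CommRing A₀] [IsNoetherianRing A₀] [CommRing A] [CommRing B]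
    [CommRing E] [Algebra A₀ A] [Algebra A B] [Algebra.FiniteType A B] [Algebra A₀ E] [Module.Flat A₀ E]
    (e : B ≃ₐ[A] A ⊗[A₀] E) (hE : ∀ (L : Type u) [Field L] [Algebra A₀ L], IsReduced (L ⊗[A₀] E))
    (hn : ∀ (p : Ideal A) [p.IsPrime], EGA4.IsGeomNormal p.ResidueField (p.Fiber B))
    (D : Type u) [CommRing D] [Algebra A D] (hD : EGA4.IsNormalRing D) : EGA4.IsNormalRing (B ⊗[A] D) := by
  refine IntBC.normal_of_local fun q _ => ?_
  haveI := (hD q).1
  haveI := (hD q).2
  let D' := Localization.AtPrime q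
  letI : Algebra A₀ D' := ((algebraMap A D').comp (algebraMap A₀ A)).toAlgebra
  haveI : IsScalarTower A₀ A D' := IsScalarTower.of_algebraMap_eq' rfl
  let K := FractionRing D'
  haveI : (RingHom.ker (algebraMap A K)).IsPrime := RingHom.ker_isPrime _
  obtain ⟨_, _⟩ := FlatLoc6.exists_residueAlgebra (L := K) (RingHom.ker (algebraMap A K)) rfl
  haveI : IsScalarTower A₀ A K := IsScalarTower.of_algebraMap_eq fun a => by
    rw [IsScalarTower.algebraMap_apply A₀ D' K, IsScalarTower.algebraMap_apply A D' K,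
      ← IsScalarTower.algebraMap_apply A₀ A D']
  haveI : IsNoetherianRing ((RingHom.ker (algebraMap A K)).Fiber B) :=
    Algebra.FiniteType.isNoetherianRing (RingHom.ker (algebraMap A K)).ResidueField _
  have hT : IntBC.IdemSep (E ⊗[A₀] K) ∧ IntBC.FracClosed (E ⊗[A₀] K) :=
    IntBC.of_equiv (((Algebra.TensorProduct.cancelBaseChange A (RingHom.ker (algebraMap A K)).ResidueField K K
      B).toRingEquiv.trans (Algebra.TensorProduct.comm A K B).toRingEquiv).trans (modelEquiv e K).symm)
      (IntBC.fieldTensor_normal K ((RingHom.ker (algebraMap A K)).Fiber B) (hn _))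
  have h := IntBC.normal_of_model hE D' hT
  exact FlatLoc6.isNormalRing_of_ringEquiv (modelEquiv e D') (IntBC.isNormalRing_of h.1 h.2)

variable {A₁ E₁ : Type u} [CommRing A₁] [IsNoetherianRing A₁] [CommRing E₁] [Algebra A₁ E₁]
  [Algebra.FiniteType A₁ E₁]

/-- around a point with geometrically reduced fibre all fibres of the model are geometrically reduced -/
theorem exists_reduced_away [Module.Flat A₁ E₁] (P : PrimeSpectrum E₁)
    (hP : GeomRedFlat5.E (Spec.map (CommRingCat.ofHom (algebraMap A₁ E₁))) P) :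
    ∃ g ∉ P.asIdeal, ∀ (L : Type u) [Field L] [Algebra A₁ L], IsReduced (L ⊗[A₁] Localization.Away g) := by
  let φ₁ := CommRingCat.ofHom (algebraMap A₁ E₁)
  haveI : IsNoetherianRing (CommRingCat.of A₁) := ‹_›
  haveI : Flat (Spec.map φ₁) := (HasRingHomProperty.Spec_iff (P := @Flat)).2 (RingHom.flat_algebraMap_iff.2 ‹_›)
  have hopen := GeomRedFlat5.isOpen_FE_Spec_noetherian φ₁ (RingHom.finiteType_algebraMap.2 inferInstance)
  obtain ⟨_, ⟨g, rfl⟩, hPg, hg⟩ := PrimeSpectrum.isTopologicalBasis_basic_opens.mem_nhds_iff.1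
    (hopen.mem_nhds (show GeomRedFlat5.FE (Spec.map φ₁) P from ⟨Flat.stalkMap _ _, hP⟩))
  refine ⟨g, hPg, fun L _ _ => ?_⟩
  let E' := Localization.Away g
  haveI : Algebra.FiniteType A₁ E' := Algebra.FiniteType.trans (R := A₁) (S := E₁) inferInstance inferInstance
  haveI : IsNoetherianRing A₁ := ‹_›
  haveI : Algebra.FinitePresentation A₁ E' := Algebra.FinitePresentation.of_finiteType.1 inferInstance
  haveI : Module.Flat E₁ E' := IsLocalization.flat E' (Submonoid.powers g)
  haveI : Module.Flat A₁ E' := Module.Flat.trans A₁ E₁ E'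
  have hall : ∀ P' : PrimeSpectrum E', GeomRedFlat5.E (Spec.map (CommRingCat.ofHom (algebraMap A₁ E'))) P' := by
    intro P'
    let j : Spec (CommRingCat.of E') ⟶ Spec (CommRingCat.of E₁) := Spec.map (CommRingCat.ofHom (algebraMap E₁ E'))
    haveI : IsOpenImmersion j := IsOpenImmersion.of_isLocalization g
    have hmem : (PrimeSpectrum.comap (algebraMap E₁ E') P') ∈ PrimeSpectrum.basicOpen g := fun h =>
      P'.isPrime.ne_top (Ideal.eq_top_of_isUnit_mem _ h (IsLocalization.Away.algebraMap_isUnit g))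
    refine (GeomRedFlat5.E_chart (Spec.map φ₁) (CommRingCat.ofHom (algebraMap A₁ E')) j (𝟙 _) ?_ P').1 (hg hmem).2
    rw [Category.comp_id, ← Spec.map_comp, ← CommRingCat.ofHom_comp, ← IsScalarTower.algebraMap_eq]
  refine isReduced_ofLocalizationMaximal _ fun Q hQ => ?_
  haveI : Algebra.FinitePresentation L (L ⊗[A₁] E') := inferInstance
  haveI : Module.Flat L (L ⊗[A₁] E') := inferInstance
  let Q' : PrimeSpectrum (L ⊗[A₁] E') := ⟨Q, inferInstance⟩
  exact GeomRedFlat5.isReduced_atPrime_of_reduced Q' (GeomRedFlat5.E_tensor Q' _ rfl (hall _))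

/-- the branch condition along a flat morphism of finite presentation with geometrically normal fibres -/
theorem branch_affine {A B : Type u} [CommRing A] [CommRing B] [Algebra A B] [Algebra.FinitePresentation A B]
    [Module.Flat A B] {X Y : Scheme.{u}} (f : X ⟶ Y) [LocallyOfFinitePresentation f]
    (j : Spec (CommRingCat.of B) ⟶ X) [IsOpenImmersion j] (i : Spec (CommRingCat.of A) ⟶ Y) [IsOpenImmersion i]
    (hji : j ≫ f = specMap (A := A) (B := B) ≫ i)
    (h : ∀ x : ↥(Spec (CommRingCat.of B)), AssDimLoci.GNormal f (f (j x)) (f.asFiber (j x)))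
    (q : Ideal B) [q.IsPrime] (p : Ideal A) [p.IsPrime] (hpq : q.comap (algebraMap A B) = p)
    (hp : CAlg2.IsGeomUnibranch (Localization.AtPrime p)) : CAlg2.IsGeomUnibranch (Localization.AtPrime q) := by
  have hn : ∀ (p : Ideal A) [p.IsPrime], EGA4.IsGeomNormal p.ResidueField (p.Fiber B) :=
    fun p _ => isGeomNormal_fiber f j i hji h p
  obtain ⟨A₁, E₁, _, _, hA₁, _, _, ⟨e⟩⟩ := SrcDescent.exists_flat_model A B
  haveI : Algebra.FiniteType ℤ A₁ := (Subalgebra.fg_iff_finiteType A₁).1 hA₁
  haveI : IsNoetherianRing A₁ := Algebra.FiniteType.isNoetherianRing ℤ A₁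
  let P : PrimeSpectrum E₁ := PrimeSpectrum.comap (GeomRedFlat5.modelMap e) ⟨q, inferInstance⟩
  obtain ⟨g, hgP, hE⟩ := exists_reduced_away P ((GeomRedFlat5.E_iff_of_isPullback (GeomRedFlat5.isPullback_model e)
    (⟨q, inferInstance⟩ : PrimeSpectrum B)).1 (E_of_geomNormal hn _))
  let E := Localization.Away g
  let gB : B := GeomRedFlat5.modelMap e g
  let B' := Localization.Away gB
  haveI : IsScalarTower A B B' := inferInstance
  haveI : Algebra.FinitePresentation A B' := Algebra.FinitePresentation.trans A B B'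
  have hmap : (Submonoid.powers gB).map e.toAlgHom = Submonoid.powers ((1 : A) ⊗ₜ[A₁] g) := by
    rw [Submonoid.map_powers]
    congr 1
    exact e.apply_symm_apply _
  let e' : B' ≃ₐ[A] A ⊗[A₁] E :=
    (IsLocalization.algEquivOfAlgEquiv B' (Localization.Away ((1 : A) ⊗ₜ[A₁] g)) e hmap).trans
      (IsLocalization.Away.tensorProductEquivTMulRight A₁ A g E).symm
  let jB : Spec (CommRingCat.of B') ⟶ Spec (CommRingCat.of B) := Spec.map (CommRingCat.ofHom (algebraMap B B'))
  haveI : IsOpenImmersion jB := IsOpenImmersion.of_isLocalization gB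
  have hn' : ∀ (p : Ideal A) [p.IsPrime], EGA4.IsGeomNormal p.ResidueField (p.Fiber B') :=
    fun p _ => isGeomNormal_fiber f (jB ≫ j) i (by
      rw [Category.assoc, hji, ← Category.assoc, ← Spec.map_comp, ← CommRingCat.ofHom_comp,
        ← IsScalarTower.algebraMap_eq]) (fun x => h (jB x)) p
  haveI : Module.Flat B B' := IsLocalization.flat B' (Submonoid.powers gB)
  haveI : Module.Flat A B' := Module.Flat.trans A B B'
  have hdisj : Disjoint (Submonoid.powers gB : Set B) (q : Set B) :=
    (Ideal.disjoint_powers_iff_notMem_of_isPrime _).mpr hgP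
  let q' : Ideal B' := q.map (algebraMap B B')
  haveI : q'.IsPrime := IsLocalization.isPrime_of_isPrime_disjoint (.powers gB) _ _ ‹_› hdisj
  have hq' : q'.comap (algebraMap B B') = q :=
    IsLocalization.under_map_of_isPrime_disjoint (Submonoid.powers gB) _ ‹_› hdisj
  -- the branch at the point
  let O := Localization.AtPrime p
  obtain ⟨D, _, _, _, _, hDn, hker, hint, hins⟩ := IntBC.branch_of_isGeomUnibranch hp
  haveI := hint
  haveI := hDn
  have hD : EGA4.IsNormalRing D := fun p _ =>
    ⟨IsLocalization.isDomain_localization (Ideal.primeCompl_le_nonZeroDivisors p),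
      isIntegrallyClosed_of_isLocalization _ p.primeCompl (Ideal.primeCompl_le_nonZeroDivisors p)⟩
  letI : Algebra A D := ((algebraMap O D).comp (algebraMap A O)).toAlgebra
  haveI : IsScalarTower A O D := IsScalarTower.of_algebraMap_eq' rfl
  let R := O ⊗[A] B'
  have hT₀ := isNormalRing_tensor e' hE hn' D hD
  have hT : EGA4.IsNormalRing (R ⊗[O] D) := FlatLoc6.isNormalRing_of_ringEquiv
    (((Algebra.TensorProduct.comm O R D).toRingEquiv.trans
      ((Algebra.TensorProduct.cancelBaseChange A O O D B').toRingEquiv.trans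
        (Algebra.TensorProduct.comm A D B').toRingEquiv)).symm) hT₀
  letI : Algebra B' R := (Algebra.TensorProduct.includeRight : B' →ₐ[A] O ⊗[A] B').toRingHom.toAlgebra
  haveI : IsScalarTower A B' R := IsScalarTower.of_algebraMap_eq fun a => by
    show algebraMap A R a = Algebra.TensorProduct.includeRight (R := A) (A := O) (algebraMap A B' a)
    rw [AlgHom.commutes]
  haveI : IsLocalization (Algebra.algebraMapSubmonoid B' p.primeCompl) R := by
    have := IsLocalization.tensorRight (R := A) (S := B') O p.primeCompl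
    exact this
  have hsub : Algebra.algebraMapSubmonoid B' p.primeCompl ≤ q'.primeCompl := by
    rintro _ ⟨a, ha, rfl⟩ hq
    refine ha (hpq.le ?_)
    show algebraMap A B a ∈ q
    rw [← hq', Ideal.mem_comap, ← IsScalarTower.algebraMap_apply]
    exact hq
  have hdisj' : Disjoint (Algebra.algebraMapSubmonoid B' p.primeCompl : Set B') (q' : Set B') :=
    Set.disjoint_left.2 fun b hb hbq => hsub hb hbq
  let qR : Ideal R := q'.map (algebraMap B' R)
  haveI : qR.IsPrime := IsLocalization.isPrime_of_isPrime_disjoint _ _ _ ‹_› hdisj'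
  have hqR : qR.comap (algebraMap B' R) = q' :=
    IsLocalization.under_map_of_isPrime_disjoint (Algebra.algebraMapSubmonoid B' p.primeCompl) _ ‹_› hdisj'
  have hqO : qR.comap (algebraMap O R) = maximalIdeal O := by
    have h1 : (qR.comap (algebraMap O R)).comap (algebraMap A O) = p := by
      rw [Ideal.comap_comap, ← IsScalarTower.algebraMap_eq, IsScalarTower.algebraMap_eq A B' R,
        ← Ideal.comap_comap, hqR, IsScalarTower.algebraMap_eq A B B', ← Ideal.comap_comap, hq', hpq]
    refine le_antisymm (IsLocalRing.le_maximalIdeal (Ideal.IsPrime.ne_top inferInstance)) ?_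
    rw [← IsLocalization.AtPrime.map_eq_maximalIdeal p O, Ideal.map_le_iff_le_comap, h1]
  have hbr : IntBC.Branch (Localization.AtPrime qR) :=
    IntBC.branch_baseChange D hker hins R qR hqO fun Q _ _ => IntBC.branch_of_normalRing hT Q
  have hgu := IntBC.isGeomUnibranch_of_branch hbr
  refine UnivOpen.isGeomUnibranch_of_ringEquiv ?_ hgu
  haveI := IsLocalization.isLocalization_isLocalization_atPrime_isLocalization
    (Algebra.algebraMapSubmonoid B' p.primeCompl) (T := Localization.AtPrime qR) qR
  refine ((IsLocalization.algEquiv (qR.comap (algebraMap B' R)).primeCompl (Localization.AtPrime qR)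
    (Localization.AtPrime (qR.comap (algebraMap B' R)))).toRingEquiv).trans ?_
  have key : ∀ (r : Ideal B') [r.IsPrime], r = q' → Nonempty (Localization.AtPrime r ≃+* Localization.AtPrime q) := by
    intro r _ hr
    subst hr
    have e₁ := (IsLocalization.localizationLocalizationAtPrimeIsoLocalization (Submonoid.powers gB)
      (q.map (algebraMap B B'))).toRingEquiv
    have key₂ : ∀ (r : Ideal B) [r.IsPrime], r = q → Nonempty (Localization.AtPrime r ≃+* Localization.AtPrime q) := by
      intro r _ hr; subst hr; exact ⟨RingEquiv.refl _⟩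
    exact ⟨e₁.symm.trans (key₂ _ hq').some⟩
  exact (key _ hqR).some

/-- **normal morphisms preserve geometrically unibranch points** -/
theorem isGeomUnibranch_stalk {X Y : Scheme.{u}} (f : X ⟶ Y) [LocallyOfFinitePresentation f] (x : X)
    (hY : CAlg2.IsGeomUnibranch (Y.presheaf.stalk (f x))) (hflat : (f.stalkMap x).hom.Flat)
    (hnorm : AssDimLoci.GNormal f (f x) (f.asFiber x)) : CAlg2.IsGeomUnibranch (X.presheaf.stalk x) := by
  let U : X.Opens := ⟨_, AssDimLoci.isOpen_flat_gnormal f⟩
  obtain ⟨V, hV, hxV, -⟩ := exists_isAffineOpen_mem_and_subset (x := f x) (U := ⊤) trivial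
  obtain ⟨W, hW, hxW, hWU⟩ := exists_isAffineOpen_mem_and_subset (x := x) (U := f ⁻¹ᵁ V ⊓ U)
    ⟨hxV, (⟨hflat, hnorm⟩ : x ∈ U)⟩
  have hWV : W ≤ f ⁻¹ᵁ V := fun z hz => (hWU hz).1
  letI : Algebra Γ(Y, V) Γ(X, W) := (f.appLE V W hWV).hom.toAlgebra
  haveI : Algebra.FinitePresentation Γ(Y, V) Γ(X, W) := by
    have := HasRingHomProperty.appLE (P := @LocallyOfFinitePresentation) f inferInstance ⟨V, hV⟩ ⟨W, hW⟩ hWV
    exact this
  have hji : hW.fromSpec ≫ f = specMap (A := Γ(Y, V)) (B := Γ(X, W)) ≫ hV.fromSpec :=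
    (hV.SpecMap_appLE_fromSpec f hW hWV).symm
  have hU : ∀ z, hW.fromSpec z ∈ U := fun z => by
    have hmem : hW.fromSpec z ∈ Set.range hW.fromSpec := ⟨z, rfl⟩
    rw [hW.range_fromSpec] at hmem
    exact (hWU hmem).2
  haveI : Module.Flat Γ(Y, V) Γ(X, W) := by
    haveI : Flat (hW.fromSpec ≫ f) := GeomRedFlat5.flat_of_range_subset (f := f) hW.fromSpec fun z => (hU z).1
    rw [hji] at this
    haveI : Flat (specMap (A := Γ(Y, V)) (B := Γ(X, W))) :=
      MorphismProperty.of_postcomp (W := @Flat) (W' := @IsOpenImmersion) _ hV.fromSpec inferInstance this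
    exact RingHom.flat_algebraMap_iff.1 ((HasRingHomProperty.Spec_iff (P := @Flat)).1 ‹_›)
  let q := (hW.primeIdealOf ⟨x, hxW⟩).asIdeal
  let p := (hV.primeIdealOf ⟨f x, hxV⟩).asIdeal
  have hpq : q.comap (algebraMap Γ(Y, V) Γ(X, W)) = p :=
    congrArg PrimeSpectrum.asIdeal (IsAffineOpen.comap_primeIdealOf_appLE V hV W hW hWV hxW)
  refine UnibEtale.isGeomUnibranch_of_ringEquiv (UnibEtale.stalkEquiv hW hxW).symm ?_
  exact branch_affine f hW.fromSpec hV.fromSpec hji (fun z => (hU z).2) q p hpq
    (UnibEtale.isGeomUnibranch_of_ringEquiv (UnibEtale.stalkEquiv hV hxV) hY)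

end Groth.Agent.NormalAtLfp

end
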